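import Mathlib

/-!
Numerical facts about the two-part of factorials, for nilpotent permutation groups.
-/

set_option autoImplicit false

namespace Cfsg.Agent.Lib.PermNilp

/-- The exponent of two in `n!`. -/
def twoExp (n : ℕ) : ℕ := (n.factorial).factorization 2

/-- The order of a Sylow two-subgroup of the symmetric group of degree `n`. -/
def twoBound (n : ℕ) : ℕ := 2 ^ twoExp n

/-- The largest order of a nilpotent subgroup of the symmetric group of degree `n`. -/
def nilpBound (n : ℕ) : ℕ := if n % 4 = 3 then 3 * twoBound (n - 3) else twoBound n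

theorem twoExp_rec (n : ℕ) : twoExp n = n / 2 + twoExp (n / 2) := by
  simp only [twoExp, Nat.factorization_def _ Nat.prime_two]
  haveI := Fact.mk Nat.prime_two
  rw [← padicValNat_mul_div_factorial (p := 2) n, padicValNat_factorial_mul]
  omega

theorem twoExp_zero : twoExp 0 = 0 := by simp [twoExp]

theorem twoExp_of_lt (n : ℕ) (h : n < 64) :
    twoExp n = n / 2 + n / 4 + n / 8 + n / 16 + n / 32 := by
  rw [twoExp_rec, twoExp_rec (n / 2), twoExp_rec (n / 2 / 2), twoExp_rec (n / 2 / 2 / 2),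
    twoExp_rec (n / 2 / 2 / 2 / 2), twoExp_rec (n / 2 / 2 / 2 / 2 / 2)]
  have : n / 2 / 2 / 2 / 2 / 2 / 2 = 0 := by omega
  rw [this, twoExp_zero]
  omega

theorem twoExp_mono {a b : ℕ} (h : a ≤ b) : twoExp a ≤ twoExp b :=
  (Nat.factorization_le_iff_dvd (Nat.factorial_ne_zero a) (Nat.factorial_ne_zero b)).mpr
    (Nat.factorial_dvd_factorial h) 2

theorem twoExp_add_le (a b : ℕ) : twoExp a + twoExp b ≤ twoExp (a + b) := by
  have := (Nat.factorization_le_iff_dvd
    (mul_ne_zero (Nat.factorial_ne_zero a) (Nat.factorial_ne_zero b)) (Nat.factorial_ne_zero _)).mpr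
    (Nat.factorial_mul_factorial_dvd_factorial_add a b) 2
  rwa [Nat.factorization_mul (Nat.factorial_ne_zero a) (Nat.factorial_ne_zero b),
    Finsupp.add_apply] at this

theorem twoExp_four (j r : ℕ) (hr : r < 4) : twoExp (4 * j + r) = 3 * j + r / 2 + twoExp j := by
  rw [twoExp_rec, twoExp_rec ((4 * j + r) / 2), show (4 * j + r) / 2 / 2 = j by omega]
  omega

theorem twoBound_pos (n : ℕ) : 0 < twoBound n := by unfold twoBound; positivity

theorem nilpBound_pos (n : ℕ) : 0 < nilpBound n := by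
  unfold nilpBound
  split_ifs <;> [exact Nat.mul_pos (by norm_num) (twoBound_pos _); exact twoBound_pos _]

theorem twoBound_mul_le (a b : ℕ) : twoBound a * twoBound b ≤ twoBound (a + b) := by
  rw [twoBound, twoBound, twoBound, ← pow_add]
  exact Nat.pow_le_pow_right (by norm_num) (twoExp_add_le a b)

theorem twoBound_three (n : ℕ) (h : n % 4 = 3) : twoBound n = 2 * twoBound (n - 3) := by
  rw [twoBound, twoBound, ← pow_succ']
  congr 1
  obtain ⟨j, rfl⟩ : ∃ j, n = 4 * j + 3 := ⟨n / 4, by omega⟩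
  rw [twoExp_four j 3 (by norm_num), show 4 * j + 3 - 3 = 4 * j + 0 by omega,
    twoExp_four j 0 (by norm_num)]
  omega

theorem four_mul_twoBound_le (n : ℕ) (h : n % 4 ≠ 3) (h3 : 3 ≤ n) :
    4 * twoBound (n - 3) ≤ twoBound n := by
  rw [twoBound, twoBound, show (4 : ℕ) = 2 ^ 2 by norm_num, ← pow_add]
  refine Nat.pow_le_pow_right (by norm_num) ?_
  obtain ⟨j, r, hr, rfl⟩ : ∃ j r, r < 3 ∧ n = 4 * (j + 1) + r :=
    ⟨n / 4 - 1, n % 4, by omega, by omega⟩
  rw [twoExp_four (j + 1) r (by omega), show 4 * (j + 1) + r - 3 = 4 * j + (r + 1) by omega,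
    twoExp_four j (r + 1) (by omega)]
  have := twoExp_mono (show j ≤ j + 1 by omega)
  omega

theorem nine_mul_twoBound_le (n : ℕ) (h : n % 4 = 2) (h6 : 6 ≤ n) :
    9 * twoBound (n - 6) ≤ twoBound n := by
  refine le_trans (Nat.mul_le_mul_right _ (show 9 ≤ 2 ^ 4 by norm_num)) ?_
  rw [twoBound, twoBound, ← pow_add]
  refine Nat.pow_le_pow_right (by norm_num) ?_
  obtain ⟨j, rfl⟩ : ∃ j, n = 4 * (j + 1) + 2 := ⟨n / 4 - 1, by omega⟩
  rw [twoExp_four (j + 1) 2 (by omega), show 4 * (j + 1) + 2 - 6 = 4 * j + 0 by omega,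
    twoExp_four j 0 (by omega)]
  have := twoExp_mono (show j ≤ j + 1 by omega)
  omega

theorem eight_mul_twoBound_le (n : ℕ) (h : n % 4 = 3) (h7 : 7 ≤ n) :
    8 * twoBound (n - 6) ≤ twoBound (n - 3) := by
  rw [twoBound, twoBound, show (8 : ℕ) = 2 ^ 3 by norm_num, ← pow_add]
  refine Nat.pow_le_pow_right (by norm_num) ?_
  obtain ⟨j, rfl⟩ : ∃ j, n = 4 * (j + 1) + 3 := ⟨n / 4 - 1, by omega⟩
  rw [show 4 * (j + 1) + 3 - 6 = 4 * j + 1 by omega, show 4 * (j + 1) + 3 - 3 = 4 * (j + 1) + 0 by omega,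
    twoExp_four (j + 1) 0 (by omega), twoExp_four j 1 (by omega)]
  have := twoExp_mono (show j ≤ j + 1 by omega)
  omega

theorem twoBound_le_nilpBound (n : ℕ) : twoBound n ≤ nilpBound n := by
  unfold nilpBound
  split_ifs with h
  · rw [twoBound_three n h]; exact Nat.mul_le_mul_right _ (by norm_num)
  · exact le_rfl

theorem nilpBound_le_two_mul (n : ℕ) : nilpBound n ≤ 2 * twoBound n := by
  unfold nilpBound
  split_ifs with h
  · rw [twoBound_three n h]; omega
  · omega

theorem nilpBound_mul_le (a b : ℕ) : nilpBound a * nilpBound b ≤ nilpBound (a + b) := by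
  have hab := twoBound_mul_le a b
  simp only [nilpBound]
  split_ifs with ha hb h hb h hb h
  · omega
  · have h1 := nine_mul_twoBound_le (a + b) (by omega) (by omega)
    have h2 := twoBound_mul_le (a - 3) (b - 3)
    rw [show a - 3 + (b - 3) = a + b - 6 by omega] at h2
    nlinarith
  · have h2 := twoBound_mul_le (a - 3) b
    rw [show a - 3 + b = a + b - 3 by omega] at h2
    nlinarith
  · have h1 := four_mul_twoBound_le (a + b) (by omega) (by omega)
    have h2 := twoBound_mul_le (a - 3) b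
    rw [show a - 3 + b = a + b - 3 by omega] at h2
    nlinarith
  · have h2 := twoBound_mul_le a (b - 3)
    rw [show a + (b - 3) = a + b - 3 by omega] at h2
    nlinarith
  · have h1 := four_mul_twoBound_le (a + b) (by omega) (by omega)
    have h2 := twoBound_mul_le a (b - 3)
    rw [show a + (b - 3) = a + b - 3 by omega] at h2
    nlinarith
  · have h1 := twoBound_three (a + b) h
    omega
  · exact hab

theorem two_pow_le (n : ℕ) : 2 ^ n ≤ twoBound n * (n + 1) := by
  induction n using Nat.strong_induction_on with | _ n ih => ?_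
  rcases Nat.eq_zero_or_pos n with rfl | hn
  · simp [twoBound, twoExp_zero]
  obtain ⟨m, r, hr, rfl⟩ : ∃ m r, r < 2 ∧ n = 2 * m + r := ⟨n / 2, n % 2, by omega, by omega⟩
  have h := ih m (by omega)
  have hv : twoExp (2 * m + r) = m + twoExp m := by
    rw [twoExp_rec, show (2 * m + r) / 2 = m by omega]
  rw [show twoBound (2 * m + r) = 2 ^ m * twoBound m by unfold twoBound; rw [hv, pow_add],
    pow_add, two_mul, pow_add]
  have : 2 ^ r * (m + 1) ≤ m + m + r + 1 := by
    interval_cases r <;> omega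
  calc 2 ^ m * 2 ^ m * 2 ^ r ≤ 2 ^ m * (twoBound m * (m + 1)) * 2 ^ r := by gcongr
    _ = 2 ^ m * twoBound m * (2 ^ r * (m + 1)) := by ring
    _ ≤ _ := by gcongr

theorem numeric_large (n : ℕ) (hn : 40 ≤ n) : 4 * 3 ^ n ≤ twoBound n ^ 2 := by
  have h1 : 4 * 3 ^ n * (n + 1) ^ 2 ≤ 4 ^ n := by
    induction n, hn using Nat.le_induction with
    | base => norm_num
    | succ n hn ih =>
      have h2 : 3 * (n + 1 + 1) ^ 2 ≤ 4 * (n + 1) ^ 2 := by nlinarith
      calc 4 * 3 ^ (n + 1) * (n + 1 + 1) ^ 2 = 4 * 3 ^ n * (3 * (n + 1 + 1) ^ 2) := by ring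
        _ ≤ 4 * 3 ^ n * (4 * (n + 1) ^ 2) := by gcongr
        _ = 4 * (4 * 3 ^ n * (n + 1) ^ 2) := by ring
        _ ≤ 4 * 4 ^ n := by gcongr
        _ = 4 ^ (n + 1) := by ring
  have h2 : 4 ^ n ≤ twoBound n ^ 2 * (n + 1) ^ 2 := by
    have := Nat.pow_le_pow_left (two_pow_le n) 2
    rw [mul_pow, ← pow_mul, mul_comm n 2, pow_mul] at this
    exact this
  exact Nat.le_of_mul_le_mul_right (h1.trans h2) (by positivity)

theorem nilpBound_sq (n : ℕ) : twoBound n ^ 2 ≤ nilpBound n ^ 2 :=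
  Nat.pow_le_pow_left (twoBound_le_nilpBound n) 2

/-- The value of `nilpBound` at small arguments. -/
def smallBound (n : ℕ) : ℕ :=
  if n % 4 = 3 then 3 * 2 ^ ((n-3) / 2 + (n-3) / 4 + (n-3) / 8 + (n-3) / 16 + (n-3) / 32)
  else 2 ^ (n / 2 + n / 4 + n / 8 + n / 16 + n / 32)

theorem nilpBound_small (n : ℕ) (h : n < 64) : nilpBound n = smallBound n := by
  rw [nilpBound, smallBound, twoBound, twoBound, twoExp_of_lt n h, twoExp_of_lt (n - 3) (by omega)]

theorem transitive_numeric (n : ℕ) (h1 : n ≠ 5) (h2 : n ≠ 7) : 3 ^ (n - 1) ≤ nilpBound n ^ 2 := by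
  by_cases hn : n < 40
  · rw [nilpBound_small n (by omega)]
    revert h1 h2; revert hn; revert n; decide +kernel
  · refine le_trans ?_ ((numeric_large n (by omega)).trans (nilpBound_sq n))
    calc 3 ^ (n - 1) ≤ 3 ^ n := Nat.pow_le_pow_right (by norm_num) (by omega)
      _ ≤ _ := Nat.le_mul_of_pos_left _ (by norm_num)

theorem even_numeric (n : ℕ) (h0 : 2 ≤ n) (h3 : n ≠ 3) (h5 : n ≠ 5) (h6 : n ≠ 6) (h7 : n ≠ 7) :
    4 * 3 ^ (n - 2) ≤ nilpBound n ^ 2 := by
  by_cases hn : n < 40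
  · rw [nilpBound_small n (by omega)]
    have key : ∀ m : Fin 40, (2 ≤ m.1 ∧ m.1 ≠ 3 ∧ m.1 ≠ 5 ∧ m.1 ≠ 6 ∧ m.1 ≠ 7) →
        4 * 3 ^ (m.1 - 2) ≤ smallBound m.1 ^ 2 := by decide +kernel
    exact key ⟨n, hn⟩ ⟨h0, h3, h5, h6, h7⟩
  · refine le_trans ?_ ((numeric_large n (by omega)).trans (nilpBound_sq n))
    exact Nat.mul_le_mul_left _ (Nat.pow_le_pow_right (by norm_num) (by omega))

theorem odd_numeric (n : ℕ) (h : Odd n) (h0 : 17 ≤ n) : 4 * 3 ^ (n - 1) ≤ nilpBound n ^ 2 := by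
  by_cases hn : n < 40
  · rw [nilpBound_small n (by omega)]
    rw [Nat.odd_iff] at h
    revert h h0; revert hn; revert n; decide +kernel
  · refine le_trans ?_ ((numeric_large n (by omega)).trans (nilpBound_sq n))
    exact Nat.mul_le_mul_left _ (Nat.pow_le_pow_right (by norm_num) (by omega))

end Cfsg.Agent.Lib.PermNilp
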