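import Mathlib
import Cfsg.Agent.Lib.CNGroup.Basic
import Cfsg.Agent.Lib.PermNilp.Numeric

/-!
Transitive nilpotent permutation groups: splitting off one prime.
-/

set_option autoImplicit false
set_option linter.style.haveILetI false

open MulAction Equiv

namespace Cfsg.Agent.Lib.PermNilp

universe u

variable {α : Type u}

/-- `N` is transitive. -/
def IsTrans (N : Subgroup (Perm α)) : Prop := ∀ x y : α, ∃ g ∈ N, g x = y

theorem exists_step [Finite α] [Nonempty α] (N : Subgroup (Perm α)) (hN : Group.IsNilpotent N)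
    (ht : IsTrans N) (p : ℕ) (hp : p.Prime) :
    ∃ (β : Type u) (_ : Finite β) (_ : Nonempty β) (M : Subgroup (Perm β)),
      Group.IsNilpotent M ∧ IsTrans M ∧
      p ^ (Nat.card α).factorization p * Nat.card β = Nat.card α ∧
      Nat.card N ∣
        p ^ (p ^ (Nat.card α).factorization p).factorial.factorization p * Nat.card M := by
  classical
  haveI := Fact.mk hp
  haveI := hN
  haveI : Finite N := inferInstance
  haveI : IsPretransitive N α :=
    ⟨fun x y => by obtain ⟨g, hg, h⟩ := ht x y; exact ⟨⟨g, hg⟩, h⟩⟩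
  obtain ⟨P⟩ : Nonempty (Sylow p N) := inferInstance
  haveI hPn : (P : Subgroup N).Normal :=
    ((Group.isNilpotent_of_finite_tfae (G := N)).out 0 3 rfl rfl).mp hN p ⟨hp⟩ P
  obtain ⟨R, hR⟩ := Subgroup.exists_right_complement'_of_coprime P.card_coprime_index
  have hRcard : Nat.card R = (P : Subgroup N).index := hR.symm.index_eq_card.symm
  have hcomm : ∀ a ∈ (P : Subgroup N), ∀ b ∈ R, a * b = b * a := by
    intro a ha b hb
    refine CNGroup.Basic.commute_of_coprime_nilpotent N a b ?_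
    refine (P.card_coprime_index.coprime_dvd_left (Subgroup.orderOf_dvd_natCard _ ha)).coprime_dvd_right ?_
    rw [← hRcard]; exact Subgroup.orderOf_dvd_natCard _ hb
  have hmul : ∀ g : N, ∃ a ∈ (P : Subgroup N), ∃ b ∈ R, g = a * b := fun g => by
    obtain ⟨⟨a, b⟩, h⟩ := hR.2 g
    exact ⟨a, a.2, b, b.2, h.symm⟩
  haveI hRn : R.Normal := by
    constructor
    intro s hs g
    obtain ⟨a, ha, b, hb, rfl⟩ := hmul g
    have : b * s * b⁻¹ ∈ R := R.mul_mem (R.mul_mem hb hs) (R.inv_mem hb)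
    have hc := hcomm a ha _ this
    rw [show a * b * s * (a * b)⁻¹ = a * (b * s * b⁻¹) * a⁻¹ by group, hc, mul_inv_cancel_right]
    exact this
  obtain ⟨x⟩ := ‹Nonempty α›
  have hy : ∀ y : α, ∃ a ∈ (P : Subgroup N), ∃ b ∈ R, a • b • x = y := fun y => by
    obtain ⟨g, hg⟩ := exists_smul_eq N x y
    obtain ⟨a, ha, b, hb, rfl⟩ := hmul g
    exact ⟨a, ha, b, hb, by rw [← mul_smul]; exact hg⟩
  have hsw : ∀ a ∈ (P : Subgroup N), ∀ b ∈ R, ∀ z : α, a • b • z = b • a • z := fun a ha b hb z => by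
    rw [← mul_smul, ← mul_smul, hcomm a ha b hb]
  set O := orbit (P : Subgroup N) x with hO
  set OR := orbit R x with hOR
  have hpos : 0 < Nat.card α := Nat.card_pos
  have hOdvd : O.ncard ∣ Nat.card α :=
    (IsBlock.orbit_of_normal (G := N) x).ncard_dvd_card (nonempty_orbit _)
  have hORdvd : OR.ncard ∣ Nat.card α :=
    (IsBlock.orbit_of_normal (G := N) (N := R) x).ncard_dvd_card (nonempty_orbit _)
  have hOP : O.ncard ∣ Nat.card (P : Subgroup N) := by
    rw [hO, ← index_stabilizer]; exact Subgroup.index_dvd_card _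
  have hORR : OR.ncard ∣ Nat.card R := by
    rw [hOR, ← index_stabilizer]; exact Subgroup.index_dvd_card _
  have hcop : O.ncard.Coprime OR.ncard :=
    (P.card_coprime_index.coprime_dvd_left hOP).coprime_dvd_right (hRcard ▸ hORR)
  have hle : Nat.card α ≤ O.ncard * OR.ncard := by
    have hP1 : ∀ o : O, ∃ a ∈ (P : Subgroup N), a • x = (o : α) := fun o => by
      obtain ⟨a, ha⟩ := o.2
      exact ⟨a, a.2, ha⟩
    have hR1 : ∀ o : OR, ∃ b ∈ R, b • x = (o : α) := fun o => by
      obtain ⟨b, hb⟩ := o.2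
      exact ⟨b, b.2, hb⟩
    choose fa hfa using hP1
    choose fb hfb using hR1
    rw [← Nat.card_coe_set_eq, ← Nat.card_coe_set_eq, ← Nat.card_prod]
    refine Nat.card_le_card_of_surjective (fun q : O × OR => fa q.1 • fb q.2 • x) fun y => ?_
    obtain ⟨a, ha, b, hb, rfl⟩ := hy y
    refine ⟨(⟨a • x, ⟨⟨a, ha⟩, rfl⟩⟩, ⟨b • x, ⟨⟨b, hb⟩, rfl⟩⟩), ?_⟩
    simp only
    rw [(hfb _).2]
    change fa _ • b • x = _
    rw [hsw _ (hfa _).1 b hb, (hfa _).2]
    exact (hsw a ha b hb x).symm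
  have hprod : O.ncard * OR.ncard = Nat.card α :=
    le_antisymm (Nat.le_of_dvd hpos (hcop.mul_dvd_of_dvd_of_dvd hOdvd hORdvd)) hle
  obtain ⟨k, hk⟩ : ∃ k, O.ncard = p ^ k := by
    obtain ⟨e, he⟩ := IsPGroup.iff_card.mp P.isPGroup'
    obtain ⟨k, -, hk⟩ := (Nat.dvd_prime_pow hp).mp (he ▸ hOP)
    exact ⟨k, hk⟩
  have hORnp : ¬ p ∣ OR.ncard := fun h =>
    P.not_dvd_index (dvd_trans h (hRcard ▸ hORR))
  have hfac : (Nat.card α).factorization p = k := by
    rw [← hprod, hk, Nat.factorization_mul (pow_ne_zero _ hp.ne_zero)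
      (fun h => hORnp (by rw [h]; exact dvd_zero p)), Finsupp.add_apply, hp.factorization_pow,
      Finsupp.single_eq_same, Nat.factorization_eq_zero_of_not_dvd hORnp, add_zero]
  let f := toPermHom (P : Subgroup N) O
  let r := toPermHom R OR
  have hf : Function.Injective f := by
    rw [injective_iff_map_eq_one]
    intro a ha
    refine Subtype.ext (Subtype.ext (Equiv.ext fun y => ?_))
    change (a : N) • y = y
    obtain ⟨a', ha', b, hb, rfl⟩ := hy y
    have h := congrArg Subtype.val (DFunLike.congr_fun ha ⟨a' • x, ⟨⟨a', ha'⟩, rfl⟩⟩)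
    change (a : N) • a' • x = a' • x at h
    rw [hsw a' ha' b hb, hsw a a.2 b hb, h]
  have hr : Function.Injective r := by
    rw [injective_iff_map_eq_one]
    intro b hb
    refine Subtype.ext (Subtype.ext (Equiv.ext fun y => ?_))
    change (b : N) • y = y
    obtain ⟨a, ha, b', hb', rfl⟩ := hy y
    have h := congrArg Subtype.val (DFunLike.congr_fun hb ⟨b' • x, ⟨⟨b', hb'⟩, rfl⟩⟩)
    change (b : N) • b' • x = b' • x at h
    rw [← hsw a ha b b.2, h]
  haveI : Nonempty OR := ⟨⟨x, mem_orbit_self x⟩⟩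
  refine ⟨OR, inferInstance, inferInstance, r.range, ?_, ?_, ?_, ?_⟩
  · haveI : Group.IsNilpotent R := inferInstance
    exact Group.nilpotent_of_surjective r.rangeRestrict r.rangeRestrict_surjective
  · intro y z
    obtain ⟨b, hb⟩ := exists_smul_eq R y z
    exact ⟨r b, ⟨b, rfl⟩, hb⟩
  · rw [hfac, ← hk, Nat.card_coe_set_eq, hprod]
  · rw [hfac, ← hR.card_mul_card]
    have h2 : Nat.card R = Nat.card r.range :=
      Nat.card_congr (MonoidHom.ofInjective hr).toEquiv
    rw [h2]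
    refine Nat.mul_dvd_mul_right ?_ _
    obtain ⟨e, he⟩ := IsPGroup.iff_card.mp P.isPGroup'
    have h1 := Subgroup.card_dvd_of_injective f hf
    rw [Nat.card_perm, Nat.card_coe_set_eq, hk, he,
      hp.pow_dvd_iff_le_factorization (Nat.factorial_ne_zero _)] at h1
    rw [he]
    exact pow_dvd_pow p h1

theorem step_odd (p : ℕ) (hp : p.Prime) (h2 : p ≠ 2) (k : ℕ) :
    (p ^ (p ^ k).factorial.factorization p) ^ 2 * 3 ≤ 3 ^ p ^ k := by
  haveI := Fact.mk hp
  have hp3 : 3 ≤ p := by have := hp.two_le; omega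
  have hsq : p ^ 2 * 3 ≤ 3 ^ p := by
    clear hp h2 this
    induction p, hp3 using Nat.le_induction with
    | base => norm_num
    | succ p hp ih =>
      calc (p + 1) ^ 2 * 3 ≤ 3 * (p ^ 2 * 3) := by nlinarith
        _ ≤ 3 * 3 ^ p := by gcongr
        _ = 3 ^ (p + 1) := by ring
  induction k with
  | zero => simp
  | succ k ih =>
    have hv : (p ^ (k + 1)).factorial.factorization p = (p ^ k).factorial.factorization p + p ^ k := by
      rw [Nat.factorization_def _ hp, Nat.factorization_def _ hp, pow_succ', padicValNat_factorial_mul]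
    rw [hv, pow_add, mul_pow]
    refine Nat.le_of_mul_le_mul_right (c := 3 ^ p ^ k) ?_ (by positivity)
    calc (p ^ (p ^ k).factorial.factorization p) ^ 2 * (p ^ p ^ k) ^ 2 * 3 * 3 ^ p ^ k
        = (p ^ (p ^ k).factorial.factorization p) ^ 2 * 3 * (p ^ 2 * 3) ^ p ^ k := by
          rw [mul_pow, ← pow_mul, ← pow_mul, ← pow_mul, mul_comm 2 (p ^ k)]; ring
      _ ≤ 3 ^ p ^ k * (3 ^ p) ^ p ^ k := by gcongr
      _ = 3 ^ p ^ (k + 1) * 3 ^ p ^ k := by rw [← pow_mul, pow_succ', mul_comm]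

theorem twoExp_lt (n : ℕ) (hn : 0 < n) : twoExp n < n := by
  induction n using Nat.strong_induction_on with | _ n ih => ?_
  rcases Nat.lt_or_ge n 2 with h | h
  · interval_cases n
    rw [twoExp_rec, twoExp_zero]
    norm_num
  · have := ih (n / 2) (by omega) (by omega)
    rw [twoExp_rec]
    omega

theorem transitive_two_pow [Finite α] [Nonempty α] (N : Subgroup (Perm α))
    (hN : Group.IsNilpotent N) (ht : IsTrans N) (a : ℕ) (ha : Nat.card α = 2 ^ a) :
    Nat.card N ∣ twoBound (Nat.card α) := by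
  obtain ⟨β, _, _, M, -, -, hβ, hd⟩ := exists_step N hN ht 2 Nat.prime_two
  rw [ha, Nat.prime_two.factorization_pow, Finsupp.single_eq_same] at hβ hd
  haveI : Subsingleton β := (Nat.card_eq_one_iff_unique.mp (by simpa using hβ)).1
  rw [show Nat.card M = 1 from Nat.card_eq_one_iff_unique.mpr ⟨inferInstance, inferInstance⟩,
    mul_one] at hd
  rwa [ha]

theorem transitive_le_nine {α : Type u} [Finite α] [Nonempty α] (N : Subgroup (Perm α))
    (hN : Group.IsNilpotent N) (ht : IsTrans N) :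
    Nat.card N ^ 2 * 9 ≤ 9 ^ Nat.card α ∧
      ((¬ ∃ a, Nat.card α = 2 ^ a) → Nat.card N ^ 2 * 3 ≤ 3 ^ Nat.card α) ∧
      ((¬ ∃ a, Nat.card α = 2 ^ a) → Even (Nat.card α) →
        Nat.card N ^ 2 * 9 ≤ 3 ^ Nat.card α) := by
  obtain ⟨n, hn⟩ : ∃ n, Nat.card α = n := ⟨_, rfl⟩
  induction n using Nat.strong_induction_on generalizing α with | _ n ih => ?_
  by_cases h2 : ∃ a, Nat.card α = 2 ^ a
  · refine ⟨?_, fun h => absurd h2 h, fun h => absurd h2 h⟩
    obtain ⟨a, ha⟩ := h2
    have h := Nat.le_of_dvd (twoBound_pos _) (transitive_two_pow N hN ht a ha)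
    have hlt := twoExp_lt (Nat.card α) Nat.card_pos
    calc Nat.card N ^ 2 * 9 ≤ (2 ^ twoExp (Nat.card α)) ^ 2 * 9 := by gcongr; exact h
      _ = 4 ^ twoExp (Nat.card α) * 9 := by rw [← pow_mul, mul_comm _ 2, pow_mul]; norm_num
      _ ≤ 9 ^ twoExp (Nat.card α) * 9 := by gcongr; norm_num
      _ = 9 ^ (twoExp (Nat.card α) + 1) := (pow_succ _ _).symm
      _ ≤ _ := Nat.pow_le_pow_right (by norm_num) hlt
  obtain ⟨p, hp, hp2, hpd⟩ : ∃ p, p.Prime ∧ p ≠ 2 ∧ p ∣ Nat.card α := by
    by_contra hc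
    push_neg at hc
    exact h2 ⟨_, Nat.eq_prime_pow_of_unique_prime_dvd Nat.card_pos.ne'
      (fun {d} hd hdd => by_contra fun h => hc d hd h hdd)⟩
  obtain ⟨β, _, _, M, hM, hMt, hβ, hd⟩ := exists_step N hN ht p hp
  have hk : 1 ≤ (Nat.card α).factorization p := hp.factorization_pos_of_dvd Nat.card_pos.ne' hpd
  generalize (Nat.card α).factorization p = k at hk hβ hd
  have hq : 3 ≤ p ^ k := le_trans (by have := hp.two_le; omega : 3 ≤ p) (Nat.le_self_pow (by omega) p)
  have hm : 0 < Nat.card β := Nat.card_pos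
  have hlt : Nat.card β < n := by rw [← hn, ← hβ]; nlinarith
  have hB := (ih _ hlt M hM hMt rfl).1
  have hA := step_odd p hp hp2 k
  have hle : Nat.card N ≤ p ^ (p ^ k).factorial.factorization p * Nat.card M :=
    Nat.le_of_dvd (Nat.mul_pos (pow_pos hp.pos _) Nat.card_pos) hd
  have key : Nat.card N ^ 2 * 3 ^ 3 ≤ 3 ^ (p ^ k + 2 * Nat.card β) := by
    calc Nat.card N ^ 2 * 3 ^ 3
        ≤ (p ^ (p ^ k).factorial.factorization p * Nat.card M) ^ 2 * 3 ^ 3 := by gcongr
      _ = (p ^ (p ^ k).factorial.factorization p) ^ 2 * 3 * (Nat.card M ^ 2 * 9) := by ring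
      _ ≤ 3 ^ p ^ k * 9 ^ Nat.card β := Nat.mul_le_mul hA hB
      _ = _ := by rw [pow_add, pow_mul]; norm_num
  have main1 : Nat.card N ^ 2 * 3 ≤ 3 ^ Nat.card α := by
    refine Nat.le_of_mul_le_mul_right (c := 3 ^ 2) ?_ (by norm_num)
    calc Nat.card N ^ 2 * 3 * 3 ^ 2 = Nat.card N ^ 2 * 3 ^ 3 := by ring
      _ ≤ 3 ^ (p ^ k + 2 * Nat.card β) := key
      _ ≤ 3 ^ (Nat.card α + 2) := Nat.pow_le_pow_right (by norm_num) (by rw [← hβ]; nlinarith)
      _ = _ := pow_add _ _ _
  refine ⟨?_, fun _ => main1, fun _ hev => ?_⟩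
  · calc Nat.card N ^ 2 * 9 = Nat.card N ^ 2 * 3 * 3 := by ring
      _ ≤ 3 ^ Nat.card α * 3 ^ Nat.card α :=
        Nat.mul_le_mul main1 (Nat.le_self_pow Nat.card_pos.ne' 3)
      _ = _ := by rw [← mul_pow]; norm_num
  · have hm2 : 2 ≤ Nat.card β := by
      by_contra h
      have h1 : Nat.card β = 1 := by omega
      rw [h1, mul_one] at hβ
      rw [← hβ, Nat.even_pow] at hev
      exact hp2 ((Nat.prime_dvd_prime_iff_eq Nat.prime_two hp).mp hev.1.two_dvd).symm
    refine Nat.le_of_mul_le_mul_right (c := 3) ?_ (by norm_num)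
    calc Nat.card N ^ 2 * 9 * 3 = Nat.card N ^ 2 * 3 ^ 3 := by ring
      _ ≤ 3 ^ (p ^ k + 2 * Nat.card β) := key
      _ ≤ 3 ^ (Nat.card α + 1) := Nat.pow_le_pow_right (by norm_num) (by rw [← hβ]; nlinarith)
      _ = _ := pow_succ _ _

theorem transitive_prime [Finite α] [Nonempty α] (N : Subgroup (Perm α))
    (hN : Group.IsNilpotent N) (ht : IsTrans N) (hp : (Nat.card α).Prime) :
    Nat.card N ≤ Nat.card α := by
  haveI := Fact.mk hp
  obtain ⟨β, _, _, M, -, -, hβ, hd⟩ := exists_step N hN ht _ hp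
  rw [hp.factorization_self, pow_one] at hβ hd
  haveI : Subsingleton β :=
    (Nat.card_eq_one_iff_unique.mp (Nat.eq_of_mul_eq_mul_left hp.pos (by rw [hβ, mul_one]))).1
  rw [show Nat.card M = 1 from Nat.card_eq_one_iff_unique.mpr ⟨inferInstance, inferInstance⟩,
    mul_one] at hd
  refine Nat.le_of_dvd hp.pos (dvd_trans hd ?_)
  have : (Nat.card α).factorial.factorization (Nat.card α) = 1 := by
    rw [Nat.factorization_def _ hp]
    have := padicValNat_factorial_mul (p := Nat.card α) 1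
    simpa using this
  rw [this, pow_one]

theorem transitive_fifteen [Finite α] [Nonempty α] (N : Subgroup (Perm α))
    (hN : Group.IsNilpotent N) (ht : IsTrans N) (h : Nat.card α = 15) : Nat.card N ≤ 15 := by
  haveI := Fact.mk Nat.prime_three
  obtain ⟨β, _, _, M, hM, hMt, hβ, hd⟩ := exists_step N hN ht 3 Nat.prime_three
  have h1 : (15 : ℕ).factorization 3 = 1 := by
    rw [show (15 : ℕ) = 3 * 5 by norm_num, Nat.factorization_mul (by norm_num) (by norm_num),
      Finsupp.add_apply, Nat.prime_three.factorization_self,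
      Nat.factorization_eq_zero_of_not_dvd (by norm_num : ¬ 3 ∣ 5)]
  rw [h, h1, pow_one] at hβ hd
  have h5 : Nat.card β = 5 := by omega
  have hM5 := transitive_prime M hM hMt (h5 ▸ (by norm_num : Nat.Prime 5))
  have h3 : (3 : ℕ).factorial.factorization 3 = 1 := by
    rw [Nat.factorization_def _ Nat.prime_three]
    simpa using padicValNat_factorial_mul (p := 3) 1
  rw [h3, pow_one] at hd
  have := Nat.le_of_dvd (Nat.mul_pos (by norm_num) Nat.card_pos) hd
  omega

end Cfsg.Agent.Lib.PermNilp
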