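import Mathlib
import Cfsg.Agent.Lib.PermNilp.Step

/-!
The order of a nilpotent subgroup of a symmetric or alternating group.
-/

set_option autoImplicit false
set_option linter.style.haveILetI false

open MulAction Equiv

namespace Cfsg.Agent.Lib.PermNilp

universe u

variable {α : Type u} {p : α → Prop}

/-- Restriction to an invariant set. -/
def res (N : Subgroup (Perm α)) (p : α → Prop) (hp : ∀ g ∈ N, ∀ x, p (g x) ↔ p x) :
    N →* Perm {x // p x} where
  toFun g := (g : Perm α).subtypePerm (hp g g.2)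
  map_one' := rfl
  map_mul' _ _ := rfl

theorem res_apply (N : Subgroup (Perm α)) (hp : ∀ g ∈ N, ∀ x, p (g x) ↔ p x) (g : N)
    (x : {x // p x}) : (res N p hp g x : α) = (g : Perm α) x := rfl

theorem not_invariant {N : Subgroup (Perm α)} (hp : ∀ g ∈ N, ∀ x, p (g x) ↔ p x) :
    ∀ g ∈ N, ∀ x, ¬ p (g x) ↔ ¬ p x := fun g hg x => not_congr (hp g hg x)

theorem res_nilpotent {N : Subgroup (Perm α)} (hN : Group.IsNilpotent N)
    (hp : ∀ g ∈ N, ∀ x, p (g x) ↔ p x) : Group.IsNilpotent (res N p hp).range := by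
  haveI := hN
  exact Group.nilpotent_of_surjective _ (res N p hp).rangeRestrict_surjective

theorem card_le_mul [Finite α] (N : Subgroup (Perm α)) (hp : ∀ g ∈ N, ∀ x, p (g x) ↔ p x) :
    Nat.card N ≤
      Nat.card (res N p hp).range * Nat.card (res N (fun x => ¬ p x) (not_invariant hp)).range := by
  classical
  rw [← Nat.card_prod]
  refine Nat.card_le_card_of_injective
    (fun g => ((res N p hp).rangeRestrict g,
      (res N _ (not_invariant hp)).rangeRestrict g)) fun g h e => ?_
  refine Subtype.ext (Equiv.ext fun x => ?_)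
  have e1 : res N p hp g = res N p hp h := congrArg Subtype.val (congrArg Prod.fst e)
  have e2 : res N _ (not_invariant hp) g = res N _ (not_invariant hp) h :=
    congrArg Subtype.val (congrArg Prod.snd e)
  by_cases hx : p x
  · exact congrArg Subtype.val (DFunLike.congr_fun e1 ⟨x, hx⟩)
  · exact congrArg Subtype.val (DFunLike.congr_fun e2 ⟨x, hx⟩)

theorem card_split [Finite α] (p : α → Prop) :
    Nat.card {x // p x} + Nat.card {x // ¬ p x} = Nat.card α := by
  classical
  rw [← Nat.card_sum]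
  exact Nat.card_congr (Equiv.sumCompl p)

/-- The orbit of a point. -/
def orb (N : Subgroup (Perm α)) (x y : α) : Prop := ∃ g ∈ N, g x = y

theorem orb_invariant (N : Subgroup (Perm α)) (x : α) :
    ∀ g ∈ N, ∀ y, orb N x (g y) ↔ orb N x y := by
  intro g hg y
  constructor
  · rintro ⟨h, hh, he⟩
    exact ⟨g⁻¹ * h, N.mul_mem (N.inv_mem hg) hh, by rw [Perm.mul_apply, he]; simp⟩
  · rintro ⟨h, hh, he⟩
    exact ⟨g * h, N.mul_mem hg hh, by rw [Perm.mul_apply, he]⟩

instance orb_nonempty (N : Subgroup (Perm α)) (x : α) : Nonempty {y // orb N x y} :=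
  ⟨⟨x, 1, N.one_mem, rfl⟩⟩

theorem orb_trans (N : Subgroup (Perm α)) (x : α) :
    IsTrans (res N (orb N x) (orb_invariant N x)).range := by
  rintro ⟨y, g, hg, rfl⟩ ⟨z, h, hh, rfl⟩
  refine ⟨res N _ (orb_invariant N x) ⟨h * g⁻¹, N.mul_mem hh (N.inv_mem hg)⟩, ⟨_, rfl⟩, ?_⟩
  apply Subtype.ext
  simp [res_apply]

theorem trans_of_orb (N : Subgroup (Perm α)) (x : α) (h : ∀ y, orb N x y) : IsTrans N := by
  intro y z
  obtain ⟨a, ha, rfl⟩ := h y
  obtain ⟨b, hb, rfl⟩ := h z
  exact ⟨b * a⁻¹, N.mul_mem hb (N.inv_mem ha), by simp⟩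

/-- Either `N` is transitive, or the points split into two smaller invariant sets. -/
theorem trans_or_split [Finite α] [Nonempty α] (N : Subgroup (Perm α)) :
    IsTrans N ∨ ∃ x : α, 0 < Nat.card {y // orb N x y} ∧ Nat.card {y // orb N x y} < Nat.card α ∧
      0 < Nat.card {y // ¬ orb N x y} ∧ Nat.card {y // ¬ orb N x y} < Nat.card α := by
  obtain ⟨x⟩ := ‹Nonempty α›
  by_cases h : ∀ y, orb N x y
  · exact Or.inl (trans_of_orb N x h)
  right
  push_neg at h
  obtain ⟨y, hy⟩ := h
  haveI : Nonempty {y // ¬ orb N x y} := ⟨⟨y, hy⟩⟩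
  have hs := card_split (α := α) (orb N x)
  have h1 : 0 < Nat.card {y // orb N x y} := Nat.card_pos
  have h2 : 0 < Nat.card {y // ¬ orb N x y} := Nat.card_pos
  exact ⟨x, h1, by omega, h2, by omega⟩

theorem card_eq_one_of_small [Finite α] (N : Subgroup (Perm α)) (h : Nat.card α ≤ 1) :
    Nat.card N = 1 := by
  haveI : Subsingleton α := Finite.card_le_one_iff_subsingleton.mp h
  exact Nat.card_eq_one_iff_unique.mpr ⟨inferInstance, inferInstance⟩

/-- A nilpotent permutation group of degree `n` has order at most `nilpBound n`. -/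
theorem card_le_nilpBound {α : Type u} [Finite α] (N : Subgroup (Perm α))
    (hN : Group.IsNilpotent N) : Nat.card N ≤ nilpBound (Nat.card α) := by
  obtain ⟨n, hn⟩ : ∃ n, Nat.card α = n := ⟨_, rfl⟩
  induction n using Nat.strong_induction_on generalizing α with | _ n ih => ?_
  by_cases hs : Nat.card α ≤ 1
  · rw [card_eq_one_of_small N hs]; exact nilpBound_pos _
  haveI : Nonempty α := (Nat.card_pos_iff.mp (by omega)).1
  rcases trans_or_split N with ht | ⟨x, h1, h2, h3, h4⟩
  · by_cases h2 : ∃ a, Nat.card α = 2 ^ a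
    · obtain ⟨a, ha⟩ := h2
      exact (Nat.le_of_dvd (twoBound_pos _) (transitive_two_pow N hN ht a ha)).trans
        (twoBound_le_nilpBound _)
    by_cases h57 : Nat.card α = 5 ∨ Nat.card α = 7
    · have hp : (Nat.card α).Prime := by rcases h57 with h | h <;> rw [h] <;> norm_num
      refine (transitive_prime N hN ht hp).trans ?_
      rcases h57 with h | h <;> rw [h, nilpBound_small _ (by norm_num)] <;> decide
    · refine (Nat.pow_le_pow_iff_left two_ne_zero).mp (le_trans ?_
        (transitive_numeric (Nat.card α) (fun h => h57 (Or.inl h)) (fun h => h57 (Or.inr h))))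
      refine Nat.le_of_mul_le_mul_right (c := 3) ?_ (by norm_num)
      rw [← pow_succ, Nat.sub_add_cancel (by omega)]
      exact (transitive_le_nine N hN ht).2.1 h2
  · refine (card_le_mul N (orb_invariant N x)).trans ?_
    rw [← card_split (orb N x)]
    refine le_trans ?_ (nilpBound_mul_le _ _)
    exact Nat.mul_le_mul (ih _ (by omega) _ (res_nilpotent hN _) rfl)
      (ih _ (by omega) _ (res_nilpotent hN _) rfl)

/-- No invariant set of at least two points on which `N` is a two-group. -/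
def NoTwoOrbit (N : Subgroup (Perm α)) : Prop :=
  ∀ x a, Nat.card {y // orb N x y} = 2 ^ a → a = 0

theorem noTwoOrbit_res {N : Subgroup (Perm α)} (hp : ∀ g ∈ N, ∀ x, p (g x) ↔ p x)
    (h : NoTwoOrbit N) : NoTwoOrbit (res N p hp).range := by
  intro x a ha
  refine h x a ?_
  rw [← ha]
  refine (Nat.card_congr ?_).symm
  refine {
    toFun := fun y => ⟨y.1, ?_⟩
    invFun := fun y => ⟨⟨y.1, ?_⟩, ?_⟩
    left_inv := fun y => rfl
    right_inv := fun y => rfl }
  · obtain ⟨_, ⟨g, rfl⟩, hg⟩ := y.2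
    exact ⟨g, g.2, congrArg Subtype.val hg⟩
  · obtain ⟨g, hg, he⟩ := y.2
    rw [← he]; exact (hp g hg _).mpr x.2
  · obtain ⟨g, hg, he⟩ := y.2
    exact ⟨res N p hp ⟨g, hg⟩, ⟨_, rfl⟩, Subtype.ext he⟩

theorem noTwoOrbit_bound {α : Type u} [Finite α] [Nonempty α] (N : Subgroup (Perm α))
    (hN : Group.IsNilpotent N) (h : NoTwoOrbit N) :
    Nat.card N ^ 2 * 3 ≤ 3 ^ Nat.card α ∧
      (Even (Nat.card α) → Nat.card N ^ 2 * 9 ≤ 3 ^ Nat.card α) ∧
      (¬ IsTrans N → Odd (Nat.card α) → Nat.card N ^ 2 * 27 ≤ 3 ^ Nat.card α) := by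
  obtain ⟨n, hn⟩ : ∃ n, Nat.card α = n := ⟨_, rfl⟩
  induction n using Nat.strong_induction_on generalizing α with | _ n ih => ?_
  rcases trans_or_split N with ht | ⟨x, h1, h2, h3, h4⟩
  · by_cases h2 : ∃ a, Nat.card α = 2 ^ a
    · obtain ⟨a, ha⟩ := h2
      obtain ⟨x⟩ := ‹Nonempty α›
      have : a = 0 := h x a (by
        rw [← ha]
        exact Nat.card_congr (Equiv.subtypeUnivEquiv fun y => ht x y))
      rw [this, pow_zero] at ha
      rw [card_eq_one_of_small N ha.le, ha]
      exact ⟨by norm_num, fun h => absurd h (by decide), fun h => absurd ht h⟩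
    · obtain ⟨-, hb, hc⟩ := transitive_le_nine N hN ht
      exact ⟨hb h2, hc h2, fun h => absurd ht h⟩
  · haveI := (Nat.card_pos_iff.mp h1).1
    haveI := (Nat.card_pos_iff.mp h3).1
    have hA := ih (Nat.card {y // orb N x y}) (by omega) _ (res_nilpotent hN (orb_invariant N x)) (noTwoOrbit_res _ h) rfl
    have hB := ih (Nat.card {y // ¬ orb N x y}) (by omega) _ (res_nilpotent hN (not_invariant (orb_invariant N x)))
      (noTwoOrbit_res _ h) rfl
    have hsq := Nat.pow_le_pow_left (card_le_mul N (orb_invariant N x)) 2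
    rw [mul_pow] at hsq
    have h9 : Nat.card N ^ 2 * 9 ≤ 3 ^ Nat.card α := by
      rw [← card_split (orb N x), pow_add]
      refine le_trans (Nat.mul_le_mul_right _ hsq) ?_
      refine le_trans (le_of_eq ?_) (Nat.mul_le_mul hA.1 hB.1)
      ring
    refine ⟨le_trans (Nat.mul_le_mul_left _ (by norm_num)) h9, fun _ => h9, fun _ ho => ?_⟩
    rw [← card_split (orb N x)] at ho ⊢
    rw [pow_add]
    refine le_trans (Nat.mul_le_mul_right _ hsq) ?_
    rcases Nat.even_or_odd (Nat.card {y // orb N x y}) with he | he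
    · refine le_trans (le_of_eq ?_) (Nat.mul_le_mul (hA.2.1 he) hB.1)
      ring
    · have he' : Even (Nat.card {y // ¬ orb N x y}) := (Nat.odd_add.mp ho).mp he
      refine le_trans (le_of_eq ?_) (Nat.mul_le_mul hA.1 (hB.2.1 he'))
      ring

theorem two_group_le_sylow {β : Type u} [Fintype β] [DecidableEq β] {R : Subgroup (Perm β)}
    (h : 2 ≤ Nat.card β) (hR : IsPGroup 2 R) :
    ∃ Q : Subgroup (Perm β), R ≤ Q ∧ IsPGroup 2 Q ∧ ∃ g ∈ Q, Perm.sign g = -1 := by
  haveI := Fact.mk Nat.prime_two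
  obtain ⟨Q, hQ⟩ := hR.exists_le_sylow
  rw [Nat.card_eq_fintype_card] at h
  obtain ⟨a, b, hab⟩ := Fintype.exists_pair_of_one_lt_card h
  have hz : IsPGroup 2 (Subgroup.zpowers (Equiv.swap a b)) :=
    IsPGroup.of_card (n := 1) (by
      rw [Nat.card_zpowers, pow_one]
      exact orderOf_eq_prime (by rw [pow_two, Equiv.swap_mul_self]) (by
        rw [Ne, Equiv.swap_eq_one_iff]; exact hab))
  obtain ⟨S, hS⟩ := hz.exists_le_sylow
  obtain ⟨g, hg⟩ := MulAction.exists_smul_eq (Perm β) S Q
  refine ⟨Q, hQ, Q.isPGroup', g * Equiv.swap a b * g⁻¹, ?_, ?_⟩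
  · rw [← hg, Sylow.coe_subgroup_smul]
    exact ⟨_, hS (Subgroup.mem_zpowers _), rfl⟩
  · simp [Perm.sign_swap hab]

/-- A group of even permutations which is a two-group on an invariant set of at least two points
is a proper subgroup of a nilpotent permutation group. -/
theorem two_mul_le_of_two_part [Fintype α] [DecidableEq α] [DecidablePred p] (N : Subgroup (Perm α))
    (hN : Group.IsNilpotent N) (hs : ∀ g ∈ N, Perm.sign g = 1)
    (hp : ∀ g ∈ N, ∀ x, p (g x) ↔ p x) (hc : 2 ≤ Nat.card {x // p x})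
    (h2 : IsPGroup 2 (res N p hp).range) : 2 * Nat.card N ≤ nilpBound (Nat.card α) := by
  haveI := Fact.mk Nat.prime_two
  obtain ⟨Q, hQ, hQ2, g, hg, hgs⟩ := two_group_le_sylow hc h2
  let S := (res N (fun x => ¬ p x) (not_invariant hp)).range
  let f : Q × S →* Perm α :=
    (Perm.subtypeCongrHom p).comp (Q.subtype.prodMap S.subtype)
  haveI := hQ2.isNilpotent
  haveI : Group.IsNilpotent S := res_nilpotent hN _
  have hX : Group.IsNilpotent f.range :=
    Group.nilpotent_of_surjective _ f.rangeRestrict_surjective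
  have hle : N ≤ f.range := by
    intro a ha
    refine ⟨(⟨res N p hp ⟨a, ha⟩, hQ ⟨_, rfl⟩⟩, ⟨_, ⟨a, ha⟩, rfl⟩), Equiv.ext fun x => ?_⟩
    change Perm.subtypeCongr _ _ x = _
    by_cases hx : p x
    · rw [Perm.subtypeCongr.left_apply _ _ hx]; rfl
    · rw [Perm.subtypeCongr.right_apply _ _ hx]; rfl
  have hne : f.range ≠ N := by
    intro e
    have h1 := hs _ (e ▸ ⟨(⟨g, hg⟩, 1), rfl⟩ : f (⟨g, hg⟩, 1) ∈ N)
    change Perm.sign (Perm.subtypeCongr g 1) = 1 at h1
    rw [Perm.sign_subtypeCongr, hgs, Perm.sign_one, mul_one] at h1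
    exact absurd h1 (by decide)
  obtain ⟨k, hk⟩ := Subgroup.card_dvd_of_le hle
  have hk2 : 2 ≤ k := by
    by_contra hk2
    interval_cases k
    · exact Nat.card_pos.ne' (by rw [hk, mul_zero])
    · exact hne (Subgroup.eq_of_le_of_card_ge hle (by rw [hk, mul_one])).symm
  calc 2 * Nat.card N ≤ k * Nat.card N := Nat.mul_le_mul_right _ hk2
    _ = Nat.card f.range := by rw [hk, mul_comm]
    _ ≤ _ := card_le_nilpBound _ hX

/-- A nilpotent group of even permutations of degree `n` outside `{0, 1, 3, 5, 6, 9}` has order at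
most half of `nilpBound n`. -/
theorem two_mul_card_le [Fintype α] [DecidableEq α] (N : Subgroup (Perm α))
    (hN : Group.IsNilpotent N) (hs : ∀ g ∈ N, Perm.sign g = 1) (h2 : 2 ≤ Nat.card α)
    (h3 : Nat.card α ≠ 3) (h5 : Nat.card α ≠ 5) (h6 : Nat.card α ≠ 6) (h9 : Nat.card α ≠ 9) :
    2 * Nat.card N ≤ nilpBound (Nat.card α) := by
  classical
  haveI : Nonempty α := (Nat.card_pos_iff.mp (by omega)).1
  by_cases h : NoTwoOrbit N
  swap
  · simp only [NoTwoOrbit, not_forall] at h
    obtain ⟨x, a, ha, ha0⟩ := h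
    refine two_mul_le_of_two_part N hN hs (orb_invariant N x) ?_ ?_
    · rw [ha]; exact Nat.le_self_pow ha0 2
    · obtain ⟨e, -, he⟩ := (Nat.dvd_prime_pow Nat.prime_two).mp
        (show _ ∣ 2 ^ _ from transitive_two_pow _ (res_nilpotent hN _) (orb_trans N x) a ha)
      exact IsPGroup.of_card he
  obtain ⟨hA, hB, hC⟩ := noTwoOrbit_bound N hN h
  have key : ∀ m, Nat.card α = m → m ≠ 7 → Nat.card N ^ 2 * 9 ≤ 3 ^ m →
      2 * Nat.card N ≤ nilpBound m := by
    intro m hm h7 hb
    subst hm
    refine (Nat.pow_le_pow_iff_left two_ne_zero).mp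
      (le_trans ?_ (even_numeric _ h2 h3 h5 h6 h7))
    rw [mul_pow]
    refine Nat.mul_le_mul_left _ (Nat.le_of_mul_le_mul_right (c := 3 ^ 2) ?_ (by norm_num))
    rw [← pow_add, Nat.sub_add_cancel h2]
    exact hb
  rcases Nat.even_or_odd (Nat.card α) with he | ho
  · exact key _ rfl (fun h => by rw [h] at he; exact absurd he (by decide)) (hB he)
  by_cases ht : IsTrans N
  · by_cases hsmall : 17 ≤ Nat.card α
    · refine (Nat.pow_le_pow_iff_left two_ne_zero).mp (le_trans ?_ (odd_numeric _ ho hsmall))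
      rw [mul_pow]
      refine Nat.mul_le_mul_left _ (Nat.le_of_mul_le_mul_right (c := 3) ?_ (by norm_num))
      rw [← pow_succ, Nat.sub_add_cancel (by omega)]
      exact hA
    have hcase : Nat.card α = 7 ∨ Nat.card α = 11 ∨ Nat.card α = 13 ∨ Nat.card α = 15 := by
      obtain ⟨k, hk⟩ := ho; omega
    rcases hcase with e | e | e | e
    · have := transitive_prime N hN ht (e ▸ by norm_num)
      rw [e, nilpBound_small _ (by norm_num)]
      have : smallBound 7 = 24 := rfl
      omega
    · have := transitive_prime N hN ht (e ▸ by norm_num)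
      rw [e, nilpBound_small _ (by norm_num)]
      have : smallBound 11 = 384 := rfl
      omega
    · have := transitive_prime N hN ht (e ▸ by norm_num)
      rw [e, nilpBound_small _ (by norm_num)]
      have : smallBound 13 = 1024 := rfl
      omega
    · have := transitive_fifteen N hN ht e
      rw [e, nilpBound_small _ (by norm_num)]
      have : smallBound 15 = 3072 := rfl
      omega
  · have h27 := hC ht ho
    by_cases h7 : Nat.card α = 7
    · rw [h7] at h27 ⊢
      rw [nilpBound_small _ (by norm_num)]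
      refine (Nat.pow_le_pow_iff_left two_ne_zero).mp ?_
      rw [mul_pow, show smallBound 7 = 24 from rfl]
      omega
    · exact key _ rfl h7 (le_trans (Nat.mul_le_mul_left _ (by norm_num)) h27)

end Cfsg.Agent.Lib.PermNilp
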