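import Mathlib
import Cfsg.Agent.Lib.PermNilp.Bound

/-!
The nilpotent subgroups of largest order of symmetric and alternating groups of degree 3 mod 4.
-/

set_option autoImplicit false
set_option linter.style.haveILetI false

open Equiv

namespace Cfsg.Agent.Lib.PermNilp

universe u

theorem perm_sylow_card {α : Type u} [Finite α] (P : Sylow 2 (Perm α)) :
    Nat.card P = twoBound (Nat.card α) := by
  haveI := Fact.mk Nat.prime_two
  rw [P.card_eq_multiplicity, Nat.card_perm]
  rfl

theorem alt_sylow_card {α : Type u} [Fintype α] [DecidableEq α] (h : 2 ≤ Nat.card α)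
    (P : Sylow 2 (alternatingGroup α)) : 2 * Nat.card P = twoBound (Nat.card α) := by
  haveI := Fact.mk Nat.prime_two
  haveI : Nontrivial α := Finite.one_lt_card_iff_nontrivial.mp h
  have h2 : 2 * Nat.card (alternatingGroup α) = (Nat.card α).factorial := by
    rw [two_mul_nat_card_alternatingGroup, Nat.card_perm]
  rw [P.card_eq_multiplicity]
  unfold twoBound twoExp
  rw [← h2, Nat.factorization_mul two_ne_zero Nat.card_pos.ne', Finsupp.add_apply,
    Nat.prime_two.factorization_self, pow_add, pow_one]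

theorem alt_card_eq {α : Type u} [Fintype α] [DecidableEq α] (N : Subgroup (alternatingGroup α)) :
    Nat.card (N.map (alternatingGroup α).subtype) = Nat.card N :=
  Nat.card_congr (N.equivMapOfInjective _ Subtype.val_injective).toEquiv.symm

theorem alt_two_mul_card_le {α : Type u} [Fintype α] [DecidableEq α]
    (N : Subgroup (alternatingGroup α)) (hN : Group.IsNilpotent N) (h2 : 2 ≤ Nat.card α)
    (h3 : Nat.card α ≠ 3) (h5 : Nat.card α ≠ 5) (h6 : Nat.card α ≠ 6) (h9 : Nat.card α ≠ 9) :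
    2 * Nat.card N ≤ nilpBound (Nat.card α) := by
  rw [← alt_card_eq]
  refine two_mul_card_le _ ?_ ?_ h2 h3 h5 h6 h9
  · haveI := hN
    exact Group.nilpotent_of_mulEquiv (N.equivMapOfInjective _ Subtype.val_injective)
  · rintro _ ⟨g, -, rfl⟩
    exact Perm.mem_alternatingGroup.mp g.2

theorem exists_prod_map {H K G : Type*} [Group H] [Group K] [Group G] [Finite H] [Finite K]
    (f : H × K →* G) (hf : Function.Injective f) (P : Sylow 2 H) (hK : Nat.card K = 3) :
    ∃ M : Subgroup G, Group.IsNilpotent M ∧ Nat.card M = 3 * Nat.card P ∧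
      Nonempty (M ≃* (↥(P : Subgroup H) × Multiplicative (ZMod 3))) := by
  haveI := Fact.mk Nat.prime_two
  haveI := Fact.mk Nat.prime_three
  haveI := P.isPGroup'.isNilpotent
  haveI := (IsPGroup.of_card (p := 3) (n := 1) (hK.trans (pow_one 3).symm)).isNilpotent
  let i : ↥(P : Subgroup H) × K →* H × K := (P : Subgroup H).subtype.prodMap (MonoidHom.id K)
  have hi : Function.Injective (f.comp i) :=
    hf.comp (Function.Injective.prodMap Subtype.val_injective Function.injective_id)
  have e := MonoidHom.ofInjective hi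
  refine ⟨(f.comp i).range, Group.nilpotent_of_mulEquiv e, ?_, ⟨e.symm.trans
    (MulEquiv.prodCongr (MulEquiv.refl _) (mulEquivOfPrimeCardEq (p := 3) hK (by simp)))⟩⟩
  rw [← Nat.card_congr e.toEquiv, Nat.card_prod, hK, mul_comm]

theorem decomp {G : Type u} [Group G] [Finite G] (N : Subgroup G) (hN : Group.IsNilpotent N)
    (e : ℕ) (hc : Nat.card N = 3 * 2 ^ e) :
    ∃ (c : G) (R : Subgroup G), orderOf c = 3 ∧ Nat.card R = 2 ^ e ∧
      R ≤ Subgroup.centralizer {c} ∧ N = Subgroup.zpowers c ⊔ R := by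
  haveI := Fact.mk Nat.prime_two
  haveI := Fact.mk Nat.prime_three
  obtain ⟨c, hc3⟩ := exists_prime_orderOf_dvd_card' (G := N) 3 (hc ▸ dvd_mul_right _ _)
  obtain ⟨R⟩ : Nonempty (Sylow 2 N) := inferInstance
  have hR : Nat.card ((R : Subgroup N).map N.subtype) = 2 ^ e := by
    rw [← Nat.card_congr ((R : Subgroup N).equivMapOfInjective _ Subtype.val_injective).toEquiv,
      R.card_eq_multiplicity, hc, Nat.factorization_mul (by norm_num) (by positivity),
      Finsupp.add_apply, Nat.factorization_eq_zero_of_not_dvd (by norm_num : ¬ 2 ∣ 3),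
      Nat.prime_two.factorization_pow, Finsupp.single_eq_same, zero_add]
  have hc3' : orderOf (c : G) = 3 := by rw [Subgroup.orderOf_coe, hc3]
  refine ⟨c, (R : Subgroup N).map N.subtype, hc3', hR, ?_, ?_⟩
  · rintro _ ⟨r, hr, rfl⟩
    rw [Subgroup.mem_centralizer_singleton_iff]
    refine congrArg Subtype.val (CNGroup.Basic.commute_of_coprime_nilpotent (N := N) r c ?_)
    obtain ⟨k, hk⟩ := IsPGroup.iff_card.mp R.isPGroup'
    rw [hc3]
    exact (Nat.Coprime.pow_left k (by norm_num)).coprime_dvd_left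
      (hk ▸ Subgroup.orderOf_dvd_natCard _ hr)
  · refine (Subgroup.eq_of_le_of_card_ge (sup_le (Subgroup.zpowers_le.mpr c.2)
      (Subgroup.map_subtype_le _)) ?_).symm
    rw [hc]
    refine Nat.le_of_dvd Nat.card_pos (Nat.Coprime.mul_dvd_of_dvd_of_dvd
      ((Nat.Coprime.pow_right e (by norm_num))) ?_ ?_)
    · rw [← hc3', ← Nat.card_zpowers]; exact Subgroup.card_dvd_of_le le_sup_left
    · rw [← hR]; exact Subgroup.card_dvd_of_le le_sup_right

theorem conj_of_centralizer {G : Type u} [Group G] [Finite G] {c₁ c₂ : G} {R₁ R₂ : Subgroup G}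
    (e : ℕ) (hc : IsConj c₁ c₂) (h₁ : R₁ ≤ Subgroup.centralizer {c₁})
    (h₂ : R₂ ≤ Subgroup.centralizer {c₂}) (k₁ : Nat.card R₁ = 2 ^ e) (k₂ : Nat.card R₂ = 2 ^ e)
    (hv : (Nat.card (Subgroup.centralizer {c₂})).factorization 2 = e) :
    ∃ g : G, Subgroup.zpowers c₂ ⊔ R₂ =
      (Subgroup.zpowers c₁ ⊔ R₁).map (MulAut.conj g).toMonoidHom := by
  haveI := Fact.mk Nat.prime_two
  obtain ⟨g, hg⟩ := isConj_iff.mp hc
  let C := Subgroup.centralizer {c₂}
  have h1' : R₁.map (MulAut.conj g).toMonoidHom ≤ C := by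
    rintro _ ⟨r, hr, rfl⟩
    have := Subgroup.mem_centralizer_singleton_iff.mp (h₁ hr)
    rw [Subgroup.mem_centralizer_singleton_iff, ← hg]
    simp only [MulEquiv.coe_toMonoidHom, MulAut.conj_apply]
    rw [show g * r * g⁻¹ * (g * c₁ * g⁻¹) = g * (r * c₁) * g⁻¹ by group, this]
    group
  have hcard : ∀ R : Subgroup G, Nat.card R = 2 ^ e → R ≤ C →
      Nat.card (R.subgroupOf C) = 2 ^ (Nat.card C).factorization 2 := fun R hR hle => by
    rw [Nat.card_congr (Subgroup.subgroupOfEquivOfLe hle).toEquiv, hR, hv]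
  let S := Sylow.ofCard _ (hcard (R₁.map (MulAut.conj g).toMonoidHom)
    ((Subgroup.card_map_of_injective (MulAut.conj g).injective).trans k₁) h1')
  let T := Sylow.ofCard _ (hcard R₂ k₂ h₂)
  obtain ⟨h, hh⟩ := MulAction.exists_smul_eq C S T
  refine ⟨h * g, ?_⟩
  rw [Subgroup.map_sup, MonoidHom.map_zpowers]
  congr 1
  · congr 1
    have := Subgroup.mem_centralizer_singleton_iff.mp h.2
    simp only [MulEquiv.coe_toMonoidHom, MulAut.conj_apply, mul_inv_rev]
    rw [show (h : G) * g * c₁ * (g⁻¹ * (h : G)⁻¹) = h * (g * c₁ * g⁻¹) * (h : G)⁻¹ by group, hg,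
      this, mul_inv_cancel_right]
  · have h3 := congrArg (fun U : Sylow 2 C => (U : Subgroup C).map C.subtype) hh
    simp only [Sylow.coe_subgroup_smul, S, T, Sylow.coe_ofCard] at h3
    rw [Subgroup.map_subgroupOf_eq_of_le h₂] at h3
    rw [← h3, Subgroup.pointwise_smul_def]
    change Subgroup.map C.subtype (Subgroup.map (MulAut.conj h).toMonoidHom
      ((R₁.map (MulAut.conj g).toMonoidHom).subgroupOf C)) = _
    rw [Subgroup.map_map, show C.subtype.comp (MulAut.conj h).toMonoidHom =
      (MulAut.conj (h : G)).toMonoidHom.comp C.subtype from MonoidHom.ext fun _ => rfl,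
      ← Subgroup.map_map, Subgroup.map_subgroupOf_eq_of_le h1', Subgroup.map_map]
    exact congrArg (fun f => Subgroup.map f R₁) (MonoidHom.ext fun r => by simp [mul_assoc])

theorem factorization_centralizer {α : Type u} [Fintype α] [DecidableEq α] {c : Perm α} {k : ℕ}
    (hc : c.cycleType = Multiset.replicate (k + 1) 3) :
    (Nat.card (Subgroup.centralizer {c})).factorization 2 =
      twoExp (Nat.card α - 3 * (k + 1)) + twoExp (k + 1) := by
  rw [Perm.nat_card_centralizer, hc, Multiset.prod_replicate, Multiset.sum_replicate,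
    Multiset.toFinset_replicate, if_neg (Nat.succ_ne_zero k), Finset.prod_singleton,
    Multiset.count_replicate_self, Nat.factorization_mul (by positivity) (by positivity),
    Nat.factorization_mul (by positivity) (by positivity), Finsupp.add_apply, Finsupp.add_apply,
    Nat.factorization_pow, Finsupp.smul_apply,
    Nat.factorization_eq_zero_of_not_dvd (by norm_num : ¬ 2 ∣ 3), smul_zero, add_zero,
    smul_eq_mul, mul_comm (k + 1) 3, ← Nat.card_eq_fintype_card]
  rfl

theorem isThreeCycle_of_centralizer {α : Type u} [Fintype α] [DecidableEq α] {c : Perm α}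
    (hn : Nat.card α % 4 = 3) (hc : orderOf c = 3) (e : ℕ) (he : twoExp (Nat.card α - 3) ≤ e + 1)
    (hd : 2 ^ e ∣ Nat.card (Subgroup.centralizer {c})) : c.IsThreeCycle := by
  obtain ⟨k, hk⟩ := Perm.cycleType_prime_order (hc.symm ▸ Nat.prime_three)
  rw [hc] at hk
  have hsum := c.sum_cycleType_le
  rw [hk, Multiset.sum_replicate, smul_eq_mul, ← Nat.card_eq_fintype_card] at hsum
  rw [Perm.IsThreeCycle, hk]
  obtain rfl | hk0 := Nat.eq_zero_or_pos k
  · rfl
  exfalso
  rw [Nat.prime_two.pow_dvd_iff_le_factorization Nat.card_pos.ne', factorization_centralizer hk]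
    at hd
  have h1 := (twoExp_add_le (Nat.card α - 3 * (k + 1)) (k + 1))
  obtain ⟨j, hj⟩ : ∃ j, Nat.card α = 4 * (j + 1) + 3 := ⟨Nat.card α / 4 - 1, by omega⟩
  have h2 := twoExp_mono (show Nat.card α - 3 * (k + 1) + (k + 1) ≤ 4 * j + 3 by omega)
  have h3 := twoExp_four (j + 1) 0 (by omega)
  have h4 := twoExp_four j 3 (by omega)
  have h5 := twoExp_mono (show j ≤ j + 1 by omega)
  rw [show Nat.card α - 3 = 4 * (j + 1) + 0 by omega] at he
  omega

theorem alt_factorization_centralizer {α : Type u} [Fintype α] [DecidableEq α]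
    (c : alternatingGroup α) (h5 : 5 ≤ Nat.card α) (hc : (c : Perm α).IsThreeCycle) :
    (Nat.card (Subgroup.centralizer {c})).factorization 2 + 1 =
      twoExp (Nat.card α - 3) := by
  have hv := factorization_centralizer (k := 0) (c := (c : Perm α)) hc.cycleType
  rw [show twoExp (0 + 1) = 0 by simp [twoExp]] at hv
  obtain ⟨a, ha, b, hb, hab⟩ := Finset.one_lt_card.mp
    (show 1 < ((c : Perm α).supportᶜ).card by
      rw [Finset.card_compl, hc.card_support, ← Nat.card_eq_fintype_card]; omega)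
  rw [Finset.mem_compl] at ha hb
  let H := Subgroup.centralizer {(c : Perm α)}
  have hswap : Equiv.swap a b ∈ H := by
    rw [Subgroup.mem_centralizer_singleton_iff]
    refine (Perm.Disjoint.commute (Perm.disjoint_iff_disjoint_support.mpr ?_)).eq
    rw [Perm.support_swap hab]
    simp [ha, hb]
  let s := Perm.sign.comp H.subtype
  have hsurj : Function.Surjective s := fun u => by
    rcases Int.units_eq_one_or u with rfl | rfl
    · exact ⟨1, map_one s⟩
    · exact ⟨⟨_, hswap⟩, Perm.sign_swap hab⟩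
  have hker : Nat.card (Subgroup.centralizer {c}) = Nat.card s.ker := by
    refine Nat.card_congr {
      toFun := fun x => ⟨⟨x.1.1, ?_⟩, Perm.mem_alternatingGroup.mp x.1.2⟩
      invFun := fun y => ⟨⟨y.1.1, Perm.mem_alternatingGroup.mpr y.2⟩, ?_⟩
      left_inv := fun x => rfl
      right_inv := fun y => rfl }
    · exact Subgroup.mem_centralizer_singleton_iff.mpr
        (congrArg Subtype.val (Subgroup.mem_centralizer_singleton_iff.mp x.2))
    · exact Subgroup.mem_centralizer_singleton_iff.mpr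
        (Subtype.ext (Subgroup.mem_centralizer_singleton_iff.mp y.1.2))
  have hmul := s.ker.card_mul_index
  rw [Subgroup.index_ker, MonoidHom.range_eq_top.mpr hsurj, Subgroup.card_top,
    Nat.card_eq_fintype_card (α := ℤˣ), Fintype.card_units_int, ← hker] at hmul
  have := congrArg (fun m : ℕ => m.factorization 2) hmul
  rw [Nat.factorization_mul Nat.card_pos.ne' two_ne_zero, Finsupp.add_apply,
    Nat.prime_two.factorization_self, hv] at this
  omega

theorem extremal_perm {α : Type u} [Fintype α] [DecidableEq α] (hn : Nat.card α % 4 = 3)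
    (N₁ N₂ : Subgroup (Perm α)) (h₁ : Group.IsNilpotent N₁) (h₂ : Group.IsNilpotent N₂)
    (k₁ : Nat.card N₁ = 3 * twoBound (Nat.card α - 3))
    (k₂ : Nat.card N₂ = 3 * twoBound (Nat.card α - 3)) :
    ∃ g : Perm α, N₂ = N₁.map (MulAut.conj g).toMonoidHom := by
  obtain ⟨c₁, R₁, o₁, r₁, l₁, rfl⟩ := decomp N₁ h₁ _ k₁
  obtain ⟨c₂, R₂, o₂, r₂, l₂, rfl⟩ := decomp N₂ h₂ _ k₂
  have t₁ := isThreeCycle_of_centralizer hn o₁ _ (Nat.le_succ _)
    (r₁ ▸ Subgroup.card_dvd_of_le l₁)
  have t₂ := isThreeCycle_of_centralizer hn o₂ _ (Nat.le_succ _)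
    (r₂ ▸ Subgroup.card_dvd_of_le l₂)
  refine conj_of_centralizer _ (Perm.isConj_iff_cycleType_eq.mpr ?_) l₁ l₂ r₁ r₂ ?_
  · rw [t₁.cycleType, t₂.cycleType]
  · rw [factorization_centralizer (k := 0) t₂.cycleType]
    simp [twoExp]

theorem extremal_alt {α : Type u} [Fintype α] [DecidableEq α] (hn : Nat.card α % 4 = 3)
    (h7 : 7 ≤ Nat.card α) (N₁ N₂ : Subgroup (alternatingGroup α)) (h₁ : Group.IsNilpotent N₁)
    (h₂ : Group.IsNilpotent N₂) (k₁ : 2 * Nat.card N₁ = 3 * twoBound (Nat.card α - 3))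
    (k₂ : 2 * Nat.card N₂ = 3 * twoBound (Nat.card α - 3)) :
    ∃ g : alternatingGroup α, N₂ = N₁.map (MulAut.conj g).toMonoidHom := by
  obtain ⟨e, he⟩ : ∃ e, twoExp (Nat.card α - 3) = e + 1 := by
    refine ⟨twoExp (Nat.card α - 3) - 1, ?_⟩
    have := twoExp_rec (Nat.card α - 3)
    omega
  rw [twoBound, he, pow_succ] at k₁ k₂
  obtain ⟨c₁, R₁, o₁, r₁, l₁, rfl⟩ := decomp N₁ h₁ e (by omega)
  obtain ⟨c₂, R₂, o₂, r₂, l₂, rfl⟩ := decomp N₂ h₂ e (by omega)
  have hd : ∀ (c : alternatingGroup α) (R : Subgroup (alternatingGroup α)),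
      R ≤ Subgroup.centralizer {c} → Nat.card R = 2 ^ e →
        2 ^ e ∣ Nat.card (Subgroup.centralizer {(c : Perm α)}) := fun c R hle hR => by
    rw [← hR, ← alt_card_eq R]
    refine Subgroup.card_dvd_of_le ?_
    rintro _ ⟨r, hr, rfl⟩
    exact Subgroup.mem_centralizer_singleton_iff.mpr
      (congrArg Subtype.val (Subgroup.mem_centralizer_singleton_iff.mp (hle hr)))
  have t₁ := isThreeCycle_of_centralizer hn ((Subgroup.orderOf_coe c₁).trans o₁) e he.le
    (hd c₁ R₁ l₁ r₁)
  have t₂ := isThreeCycle_of_centralizer hn ((Subgroup.orderOf_coe c₂).trans o₂) e he.le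
    (hd c₂ R₂ l₂ r₂)
  refine conj_of_centralizer _ (alternatingGroup.isThreeCycle_isConj (by omega) t₁ t₂) l₁ l₂ r₁ r₂
    ?_
  have := alt_factorization_centralizer c₂ (by omega) t₂
  omega

end Cfsg.Agent.Lib.PermNilp
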